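import Groth.Agent.Lib.AlgGrpBasic19.Basic
import Groth.Agent.Lib.FppfDesc19.Basic
import Groth.Prelude.Def_W4bk4git07Quot

/-!
# Associated bundles: fpqc-local criterion for cartesian squares, points of principal bundles
-/

set_option autoImplicit false
set_option linter.style.haveILetI false
set_option backward.isDefEq.respectTransparency.types false

universe u

open CategoryTheory Limits MonoidalCategory CartesianMonoidalCategory MonObj GrpObj AlgebraicGeometry

namespace Groth.Agent.AssocBundle19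

open Groth.Agent.AlgGrpBasic19

variable {S : Scheme.{u}}

/-- A square whose points are unique and exist fpqc-locally is cartesian. -/
theorem isPullback_of_local {P A Q B : Over S} (f₁ : P ⟶ A) (f₂ : P ⟶ Q) (π : A ⟶ B) (p : Q ⟶ B)
    (w : f₁ ≫ π = f₂ ≫ p)
    (uniq : ∀ (T : Over S) (a b : T ⟶ P), a ≫ f₁ = b ≫ f₁ → a ≫ f₂ = b ≫ f₂ → a = b)
    (loc : ∀ (T : Over S) (v : T ⟶ A) (u : T ⟶ Q), v ≫ π = u ≫ p →
      ∃ (T' : Over S) (c : T' ⟶ T) (w₀ : T' ⟶ P), Flat c.left ∧ Surjective c.left ∧ QuasiCompact c.left ∧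
        w₀ ≫ f₁ = c ≫ v ∧ w₀ ≫ f₂ = c ≫ u) :
    IsPullback f₁ f₂ π p := by
  have key : ∀ s : PullbackCone π p, ∃ l : s.pt ⟶ P, l ≫ f₁ = s.fst ∧ l ≫ f₂ = s.snd := fun s => by
    obtain ⟨T', c, w₀, _, _, _, h1, h2⟩ := loc s.pt s.fst s.snd s.condition
    haveI := epi_of_cover c
    obtain ⟨l, hl⟩ := exists_desc c w₀ fun T a b e => uniq T _ _
      (by rw [Category.assoc, Category.assoc, h1, reassoc_of% e])
      (by rw [Category.assoc, Category.assoc, h2, reassoc_of% e])
    exact ⟨l, by rw [← cancel_epi c, ← Category.assoc, hl, h1], by rw [← cancel_epi c, ← Category.assoc, hl, h2]⟩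
  choose l hl₁ hl₂ using key
  exact ⟨⟨w⟩, ⟨PullbackCone.IsLimit.mk w l hl₁ hl₂
    fun s m h1 h2 => uniq _ _ _ (h1.trans (hl₁ s).symm) (h2.trans (hl₂ s).symm)⟩⟩

/-- In a principal bundle two points over the same point differ by a group element. -/
theorem exists_smul {H P Q T : Over S} [GrpObj H] {b : AlgGrp.Action H P} {q : P ⟶ Q} {hinv : GIT.IsInvariant b q}
    (hiso : IsIso (GIT.PsiY b q hinv)) (p p' : T ⟶ P) (e : p ≫ q = p' ≫ q) :
    ∃ h : T ⟶ H, lift h p ≫ b.act = p' := by
  let c : T.left ⟶ pullback q.left q.left := pullback.lift p'.left p.left (by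
    rw [← Over.comp_left, ← Over.comp_left, e])
  let l : T.left ⟶ (H ⊗ P).left := c ≫ inv (GIT.PsiY b q hinv)
  have hl : l ≫ GIT.PsiY b q hinv = c := by simp [l]
  have h1 : l ≫ b.act.left = p'.left := by
    have := congrArg (fun m => m ≫ pullback.fst q.left q.left) hl
    simp only [GIT.PsiY, c, Category.assoc] at this
    erw [pullback.lift_fst, pullback.lift_fst] at this
    exact this
  have h2 : l ≫ (snd H P).left = p.left := by
    have := congrArg (fun m => m ≫ pullback.snd q.left q.left) hl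
    simp only [GIT.PsiY, c, Category.assoc] at this
    erw [pullback.lift_snd, pullback.lift_snd] at this
    exact this
  let L : T ⟶ H ⊗ P := Over.homMk l (by rw [← Over.w (snd H P), reassoc_of% h2, Over.w p])
  have hL2 : L ≫ snd H P = p := Over.OverMorphism.ext h2
  refine ⟨L ≫ fst H P, ?_⟩
  rw [← hL2, ← comp_lift, lift_fst_snd, Category.comp_id]
  exact Over.OverMorphism.ext h1

theorem comp_invariant {H P Q T : Over S} [GrpObj H] {b : AlgGrp.Action H P} {q : P ⟶ Q}
    (hinv : GIT.IsInvariant b q) (h : T ⟶ H) (p : T ⟶ P) : (lift h p ≫ b.act) ≫ q = p ≫ q := by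
  rw [Category.assoc, hinv, lift_snd_assoc]

/-- The right translation by a subgroup is free. -/
theorem eq_one_of_translate {H G T : Over S} [GrpObj H] [GrpObj G] (j : H ⟶ G) [IsMonHom j] [Mono j]
    {g : T ⟶ G} {h : T ⟶ H} (e : g * (h ≫ j)⁻¹ = g) : h = 1 := by
  rw [← cancel_mono j, MonObj.one_comp]
  exact inv_eq_one.1 (mul_eq_left.1 e)

end Groth.Agent.AssocBundle19
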